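import Groth.Agent.FlatCrit65.Injective
import Groth.Agent.FlatStage64.Syzygy
import Mathlib.RingTheory.Flat.Localization
import Mathlib.RingTheory.Localization.Finiteness
import Mathlib.RingTheory.Localization.AtPrime.Basic

set_option autoImplicit false
set_option linter.style.haveILetI false

universe u

open TensorProduct IsLocalRing

set_option maxHeartbeats 1000000
set_option synthInstance.maxHeartbeats 100000

namespace Groth.Agent.RelReg52

section Local

variable {R S N : Type u} [CommRing R] [CommRing S] [Algebra R S] [AddCommGroup N] [Module R N]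
  [Module S N] [IsScalarTower R S N]

theorem flat_localizedModule [Module.Flat R N] (T : Submonoid S) :
    Module.Flat R (LocalizedModule T N) := by
  refine Module.Flat.iff_lTensor_injective'.mpr fun I => ?_
  have hinj : Function.Injective (AlgebraTensorModule.lTensor S N I.subtype) :=
    Module.Flat.lTensor_preserves_injective_linearMap (M := N) I.subtype I.injective_subtype
  have hmap := IsLocalizedModule.map_injective T
    (AlgebraTensorModule.rTensor R I (LocalizedModule.mkLinearMap T N))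
    (AlgebraTensorModule.rTensor R R (LocalizedModule.mkLinearMap T N))
    (AlgebraTensorModule.lTensor S N I.subtype) hinj
  rw [IsLocalizedModule.map_lTensor] at hmap
  exact hmap

variable [IsNoetherianRing R] [IsLocalRing R] [IsNoetherianRing S] [Module.Finite S N]

/-- An element which is regular modulo the maximal ideal of the base is universally regular. -/
theorem lTensor_lsmul_injective [Module.Flat R N] (c : S)
    (hfib : ∀ n : N, c • n ∈ maximalIdeal R • (⊤ : Submodule R N) →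
      n ∈ maximalIdeal R • (⊤ : Submodule R N))
    (P : Ideal S) [P.IsPrime] (hP : (maximalIdeal R).map (algebraMap R S) ≤ P)
    (W : Type u) [AddCommGroup W] [Module R W] :
    Function.Injective ((Algebra.lsmul R R (LocalizedModule P.primeCompl N) c).lTensor W) := by
  let L := LocalizedModule P.primeCompl N
  let ν := LocalizedModule.mkLinearMap P.primeCompl N
  haveI : Module.Flat R L := flat_localizedModule P.primeCompl
  haveI : IsNoetherianRing (Localization.AtPrime P) :=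
    IsLocalization.isNoetherianRing P.primeCompl _ inferInstance
  let m := maximalIdeal R
  let f : L →ₗ[R] L := Algebra.lsmul R R L c
  have hint : ∀ x ∈ m • (⊤ : Submodule R L), ∃ (t : P.primeCompl) (y : N),
      y ∈ m • (⊤ : Submodule R N) ∧ t.1 • x = ν y := by
    intro x hx
    refine Submodule.smul_induction_on hx (fun r hr z _ => ?_) (fun a b ha hb => ?_)
    · obtain ⟨⟨y, s⟩, hy⟩ := IsLocalizedModule.surj P.primeCompl ν z
      refine ⟨s, r • y, Submodule.smul_mem_smul hr trivial, ?_⟩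
      rw [LinearMap.map_smul_of_tower, ← hy, smul_comm, Submonoid.smul_def]
    · obtain ⟨s, y, hy, hys⟩ := ha
      obtain ⟨t, z, hz, hzt⟩ := hb
      refine ⟨s * t, t.1 • y + s.1 • z, add_mem ?_ ?_, ?_⟩
      · exact Submodule.smul_induction_on hy (fun r hr w _ => by
          rw [smul_comm]; exact Submodule.smul_mem_smul hr trivial)
          (fun a b ha hb => by rw [smul_add]; exact add_mem ha hb)
      · exact Submodule.smul_induction_on hz (fun r hr w _ => by
          rw [smul_comm]; exact Submodule.smul_mem_smul hr trivial)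
          (fun a b ha hb => by rw [smul_add]; exact add_mem ha hb)
      · rw [map_add, map_smul, map_smul, ← hys, ← hzt, smul_add, smul_smul, smul_smul, Submonoid.coe_mul,
          mul_comm (s : S) (t : S)]
  have hstab : ∀ (z : Localization.AtPrime P) (x : L), x ∈ m • (⊤ : Submodule R L) →
      z • x ∈ m • (⊤ : Submodule R L) := fun z x hx =>
    Submodule.smul_induction_on hx (fun r hr w _ => by
      rw [smul_comm]; exact Submodule.smul_mem_smul hr trivial)
      (fun a b ha hb => by rw [smul_add]; exact add_mem ha hb)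
  have hf : Function.Injective (f.lTensor (R ⧸ m)) := by
    rw [injective_iff_map_eq_zero]
    intro t ht
    obtain ⟨x, rfl⟩ : ∃ x, (1 : R ⧸ m) ⊗ₜ[R] x = t :=
      TensorProduct.mk_surjective R L (R ⧸ m) Ideal.Quotient.mk_surjective t
    rw [LinearMap.lTensor_tmul, FlatCrit65.one_tmul_eq_zero_iff] at ht
    rw [FlatCrit65.one_tmul_eq_zero_iff]
    obtain ⟨⟨y, s⟩, hy⟩ := IsLocalizedModule.surj P.primeCompl ν x
    obtain ⟨t, y', hy', ht'⟩ := hint _ ht
    have h1 : ν (t.1 • c • y) = ν (s.1 • y') := by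
      rw [map_smul, map_smul, map_smul, ← hy, ← ht', Submonoid.smul_def]
      show t.1 • c • s.1 • x = s.1 • t.1 • c • x
      simp only [smul_smul]
      congr 1
      ring
    obtain ⟨u, hu⟩ := IsLocalizedModule.exists_of_eq (S := P.primeCompl) (f := ν) h1
    have h2 : c • ((u.1 * t.1) • y) ∈ m • (⊤ : Submodule R N) := by
      have h3 : c • ((u.1 * t.1) • y) = (u.1 * s.1) • y' := by
        have hu' : u.1 • t.1 • c • y = u.1 • s.1 • y' := hu
        simp only [smul_smul] at hu' ⊢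
        rw [← hu']
        congr 1
        ring
      rw [h3]
      exact Submodule.smul_induction_on hy' (fun r hr w _ => by
          rw [smul_comm]; exact Submodule.smul_mem_smul hr trivial)
          (fun a b ha hb => by rw [smul_add]; exact add_mem ha hb)
    have h4 : ν ((u.1 * t.1) • y) ∈ m • (⊤ : Submodule R L) :=
      Submodule.smul_induction_on (hfib _ h2) (fun r hr w _ => by
          rw [LinearMap.map_smul_of_tower]; exact Submodule.smul_mem_smul hr trivial)
          (fun a b ha hb => by rw [map_add]; exact add_mem ha hb)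
    have h5 : ν ((u.1 * t.1) • y) = algebraMap S (Localization.AtPrime P) (u * t * s : P.primeCompl).1 • x := by
      rw [map_smul, ← hy, algebraMap_smul, Submonoid.smul_def, smul_smul]
      rfl
    obtain ⟨v, hv⟩ := IsLocalization.map_units (Localization.AtPrime P) (u * t * s : P.primeCompl)
    rw [h5, ← hv] at h4
    have := hstab (↑v⁻¹) _ h4
    rwa [smul_smul, Units.inv_mul, one_smul] at this
  have hm : m.map (algebraMap R (Localization.AtPrime P)) ≤ Ideal.jacobson ⊥ := by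
    rw [IsLocalRing.jacobson_eq_maximalIdeal ⊥ bot_ne_top, Ideal.map_le_iff_le_comap]
    intro x hx
    rw [Ideal.mem_comap, IsScalarTower.algebraMap_apply R S (Localization.AtPrime P)]
    exact (IsLocalization.AtPrime.to_map_mem_maximal_iff (Localization.AtPrime P) P _).mpr
      (hP (Ideal.mem_map_of_mem _ hx))
  haveI : Module.Finite (Localization.AtPrime P) L :=
    Module.Finite.of_isLocalizedModule P.primeCompl ν
  obtain ⟨hi, hflat⟩ := FlatCrit65.injective_and_flat_quotient (S := Localization.AtPrime P)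
    (M := L) (N := L) m hm f hf
  exact LinearMap.lTensor_injective_of_exact_of_flat (LinearMap.range f).mkQ
    (Submodule.mkQ_surjective _) f hi (LinearMap.exact_map_mkQ_range f) W

end Local

section Fibre

variable {A₀ B₀ M₀ : Type u} [CommRing A₀] [CommRing B₀] [Algebra A₀ B₀] [AddCommGroup M₀]
  [Module A₀ M₀] [Module B₀ M₀] [IsScalarTower A₀ B₀ M₀]
  (R : Type u) [CommRing R] [Algebra A₀ R] (I : Ideal R) (a₀ : B₀)
  {k : Type u} [CommRing k] [Algebra A₀ k]

theorem mem_smul_of_smul_mem (ι : (R ⧸ I) →ₗ[A₀] k) (π : k →ₗ[A₀] (R ⧸ I)) (hπ : ∀ z, π (ι z) = z)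
    (hinj : Function.Injective ((Algebra.lsmul A₀ A₀ M₀ a₀).lTensor k)) (n : R ⊗[A₀] M₀)
    (hn : letI := FlatStage64.tensorModule A₀ R B₀ M₀
      ((1 : R) ⊗ₜ[A₀] a₀ : R ⊗[A₀] B₀) • n ∈ I • (⊤ : Submodule R (R ⊗[A₀] M₀))) :
    n ∈ I • (⊤ : Submodule R (R ⊗[A₀] M₀)) := by
  letI := FlatStage64.tensorModule A₀ R B₀ M₀
  let g := Algebra.lsmul A₀ A₀ M₀ a₀
  let e := TensorProduct.AlgebraTensorModule.cancelBaseChange A₀ R R (R ⧸ I) M₀
  replace hn := (FlatCrit65.one_tmul_eq_zero_iff (M := R ⊗[A₀] M₀) I _).2 hn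
  refine (FlatCrit65.one_tmul_eq_zero_iff (M := R ⊗[A₀] M₀) I _).1 ?_
  have hnat : ∀ w : R ⊗[A₀] M₀,
      e ((1 : R ⧸ I) ⊗ₜ[R] (((1 : R) ⊗ₜ[A₀] a₀ : R ⊗[A₀] B₀) • w)) =
      g.lTensor (R ⧸ I) (e ((1 : R ⧸ I) ⊗ₜ[R] w)) := by
    intro w
    induction w using TensorProduct.induction_on with
    | zero => simp
    | add u v hu hv => simp only [smul_add, tmul_add, map_add, hu, hv]
    | tmul r w => simp [e, g, FlatStage64.tmul_smul_tmul]
  apply e.injective
  rw [LinearEquiv.map_zero]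
  have h0 : g.lTensor _ (e ((1 : R ⧸ I) ⊗ₜ[R] n)) = 0 := by rw [← hnat, hn, LinearEquiv.map_zero]
  have h1 : ι.rTensor M₀ (e ((1 : R ⧸ I) ⊗ₜ[R] n)) = 0 := by
    apply hinj
    rw [map_zero, ← LinearMap.comp_apply, LinearMap.lTensor_comp_rTensor,
      ← LinearMap.rTensor_comp_lTensor, LinearMap.comp_apply, h0, map_zero]
  have h2 := congrArg (π.rTensor M₀) h1
  rw [map_zero, ← LinearMap.rTensor_comp_apply, show π ∘ₗ ι = LinearMap.id from LinearMap.ext hπ,
    LinearMap.rTensor_id, LinearMap.id_apply] at h2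
  exact h2

end Fibre

section Abstract

variable {A₀ R A M₀ Bp N' L : Type u} [CommRing A₀] [CommRing R] [Algebra A₀ R] [CommRing A] [Algebra A₀ A]
  [CommRing Bp] [Algebra A₀ Bp] [Algebra R Bp] [IsScalarTower A₀ R Bp]
  [AddCommGroup M₀] [Module A₀ M₀]
  [AddCommGroup N'] [Module A₀ N'] [Module R N'] [IsScalarTower A₀ R N']
  [AddCommGroup L] [Module A₀ L] [Module R L] [Module Bp L] [IsScalarTower A₀ Bp L]
  [IsScalarTower R Bp L] [IsScalarTower A₀ R L]

theorem lift_eq_zero (g : M₀ →ₗ[A₀] M₀) (f : N' →ₗ[R] N') (hf : Function.Injective (f.lTensor Bp))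
    (ω : M₀ →ₗ[A₀] N') (hω : ∀ m, f (ω m) = ω (g m)) (ψ : N' →ₗ[R] L) (θ₀ : M₀ →ₗ[A₀] L)
    (hψ : ∀ m, ψ (ω m) = θ₀ m) (ρ : A →ₗ[A₀] Bp) (x : A ⊗[A₀] M₀) (hx : g.lTensor A x = 0) :
    TensorProduct.lift (((LinearMap.lsmul Bp L).restrictScalars₁₂ A₀ A₀).compl₁₂ ρ θ₀) x = 0 := by
  let Φ : A ⊗[A₀] M₀ →ₗ[A₀] Bp ⊗[R] N' :=
    TensorProduct.lift (((TensorProduct.mk R Bp N').restrictScalars₁₂ A₀ A₀).compl₁₂ ρ ω)
  let Ψ : Bp ⊗[R] N' →ₗ[R] L :=
    TensorProduct.lift (((LinearMap.lsmul Bp L).restrictScalars₁₂ R R).compl₂ ψ)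
  have hΦ : ∀ w, f.lTensor Bp (Φ w) = Φ (g.lTensor A w) := by
    intro w
    induction w using TensorProduct.induction_on with
    | zero => simp
    | add u v hu hv => simp only [map_add, hu, hv]
    | tmul a w => simp [Φ, hω]
  have hΨ : ∀ w, Ψ (Φ w) =
      TensorProduct.lift (((LinearMap.lsmul Bp L).restrictScalars₁₂ A₀ A₀).compl₁₂ ρ θ₀) w := by
    intro w
    induction w using TensorProduct.induction_on with
    | zero => simp
    | add u v hu hv => simp only [map_add, hu, hv]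
    | tmul a w => simp [Φ, Ψ, hψ]
  have hz : Φ x = 0 := by
    apply hf
    rw [map_zero, hΦ, hx, map_zero]
  rw [← hΨ, hz, map_zero]

end Abstract

section At

variable {A₀ R A B₀ M₀ Bp L : Type u} [CommRing A₀] [CommRing R] [IsNoetherianRing R] [IsLocalRing R]
  [Algebra A₀ R] [CommRing A] [Algebra A₀ A]
  [CommRing B₀] [Algebra A₀ B₀] [Algebra.FiniteType A₀ B₀]
  [AddCommGroup M₀] [Module A₀ M₀] [Module B₀ M₀] [IsScalarTower A₀ B₀ M₀] [Module.Finite B₀ M₀]
  [CommRing Bp] [IsLocalRing Bp] [Algebra A₀ Bp] [Algebra R Bp] [IsScalarTower A₀ R Bp]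
  [AddCommGroup L] [Module A₀ L] [Module Bp L] [IsScalarTower A₀ Bp L]

theorem lift_eq_zero_of_fibre (hflat : Module.Flat R (R ⊗[A₀] M₀)) (a₀ : B₀)
    (hfib : letI := FlatStage64.tensorModule A₀ R B₀ M₀
      ∀ n : R ⊗[A₀] M₀, ((1 : R) ⊗ₜ[A₀] a₀ : R ⊗[A₀] B₀) • n ∈ maximalIdeal R • (⊤ : Submodule R _) →
        n ∈ maximalIdeal R • (⊤ : Submodule R (R ⊗[A₀] M₀)))
    (hloc : ∀ r ∈ maximalIdeal R, algebraMap R Bp r ∈ maximalIdeal Bp)
    (β : B₀ →ₐ[A₀] Bp) (θ₀ : M₀ →ₗ[A₀] L) (hθ₀ : ∀ b m, θ₀ (b • m) = β b • θ₀ m)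
    (ρ : A →ₗ[A₀] Bp) (x : A ⊗[A₀] M₀) (hx : (Algebra.lsmul A₀ A₀ M₀ a₀).lTensor A x = 0) :
    TensorProduct.lift (((LinearMap.lsmul Bp L).restrictScalars₁₂ A₀ A₀).compl₁₂ ρ θ₀) x = 0 := by
  letI := FlatStage64.tensorModule A₀ R B₀ M₀
  haveI := FlatStage64.isScalarTower_tensorModule A₀ R B₀ M₀
  haveI := FlatStage64.finite_tensorModule A₀ R B₀ M₀
  haveI : IsNoetherianRing (R ⊗[A₀] B₀) := Algebra.FiniteType.isNoetherianRing R (R ⊗[A₀] B₀)
  haveI : IsScalarTower A₀ (R ⊗[A₀] B₀) (R ⊗[A₀] M₀) := IsScalarTower.of_algebraMap_smul fun a z => by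
    rw [IsScalarTower.algebraMap_apply A₀ R (R ⊗[A₀] B₀)]
    exact (algebraMap_smul (R ⊗[A₀] B₀) (algebraMap A₀ R a) z).trans (algebraMap_smul R a z)
  let σ : R ⊗[A₀] B₀ →ₐ[R] Bp := Algebra.TensorProduct.lift (Algebra.ofId R Bp) β fun _ _ => mul_comm _ _
  let P₁ : Ideal (R ⊗[A₀] B₀) := (maximalIdeal Bp).comap σ.toRingHom
  haveI : P₁.IsPrime := inferInstanceAs ((maximalIdeal Bp).comap _).IsPrime
  have hP₁ : (maximalIdeal R).map (algebraMap R (R ⊗[A₀] B₀)) ≤ P₁ := by
    rw [Ideal.map_le_iff_le_comap]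
    intro r hr
    show σ (algebraMap R _ r) ∈ maximalIdeal Bp
    rw [AlgHom.commutes]
    exact hloc r hr
  letI : Module R L := Module.compHom L (algebraMap R Bp)
  haveI : IsScalarTower R Bp L := IsScalarTower.of_algebraMap_smul fun _ _ => rfl
  haveI : IsScalarTower A₀ R L := IsScalarTower.of_algebraMap_smul fun a z => by
    show algebraMap R Bp (algebraMap A₀ R a) • z = a • z
    rw [← IsScalarTower.algebraMap_apply, algebraMap_smul]
  letI : Module (R ⊗[A₀] B₀) L := Module.compHom L σ.toRingHom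
  haveI : IsScalarTower R (R ⊗[A₀] B₀) L := ⟨fun r s z => by
    show σ (r • s) • z = algebraMap R Bp r • σ s • z
    rw [map_smul, Algebra.smul_def, mul_smul]⟩
  let ψ₀ : R ⊗[A₀] M₀ →ₗ[R] L := LinearMap.liftBaseChange R θ₀
  have hψ₀ : ∀ (r : R) (w : M₀), ψ₀ (r ⊗ₜ w) = algebraMap R Bp r • θ₀ w := fun r w => rfl
  have hlin : ∀ (s : R ⊗[A₀] B₀) (w : R ⊗[A₀] M₀), ψ₀ (s • w) = σ s • ψ₀ w := by
    intro s w
    induction w using TensorProduct.induction_on with
    | zero => rw [smul_zero, map_zero, smul_zero]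
    | add u v hu hv => rw [smul_add, map_add, hu, hv, map_add, smul_add]
    | tmul r' w =>
      induction s using TensorProduct.induction_on with
      | zero => rw [zero_smul, map_zero, map_zero, zero_smul]
      | add u v hu hv => rw [add_smul, map_add, hu, hv, map_add, add_smul]
      | tmul r b =>
        rw [FlatStage64.tmul_smul_tmul, hψ₀, hψ₀, show σ (r ⊗ₜ b) = algebraMap R Bp r * β b from
          Algebra.TensorProduct.lift_tmul _ _ _ _ _, map_mul, hθ₀, smul_smul, smul_smul]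
        congr 1
        ring
  let ψ : R ⊗[A₀] M₀ →ₗ[R ⊗[A₀] B₀] L := { ψ₀ with map_smul' := hlin }
  have hunit : ∀ s : P₁.primeCompl,
      IsUnit (algebraMap (R ⊗[A₀] B₀) (Module.End (R ⊗[A₀] B₀) L) s) := by
    intro s
    have hu : IsUnit (σ s.1) := by
      by_contra h
      exact s.2 ((IsLocalRing.mem_maximalIdeal _).2 h)
    rw [Module.End.isUnit_iff]
    obtain ⟨v, hv⟩ := hu
    constructor
    · intro z w hzw
      have hzw' : σ s.1 • z = σ s.1 • w := hzw
      rw [← hv] at hzw'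
      exact smul_left_cancel v hzw'
    · intro z
      refine ⟨(↑v⁻¹ : Bp) • z, ?_⟩
      show σ s.1 • (↑v⁻¹ : Bp) • z = z
      rw [← hv, smul_smul, Units.mul_inv, one_smul]
  let ν := LocalizedModule.mkLinearMap P₁.primeCompl (R ⊗[A₀] M₀)
  haveI : IsScalarTower A₀ R (LocalizedModule P₁.primeCompl (R ⊗[A₀] M₀)) :=
    IsScalarTower.of_algebraMap_smul fun a z => by
      rw [← algebraMap_smul (R ⊗[A₀] B₀) a z, IsScalarTower.algebraMap_apply A₀ R (R ⊗[A₀] B₀)]
      exact (algebraMap_smul (R ⊗[A₀] B₀) (algebraMap A₀ R a) z).symm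
  refine lift_eq_zero (R := R) (Algebra.lsmul A₀ A₀ M₀ a₀)
    (Algebra.lsmul R R _ ((1 : R) ⊗ₜ[A₀] a₀ : R ⊗[A₀] B₀))
    (lTensor_lsmul_injective _ hfib P₁ hP₁ Bp)
    ((ν.restrictScalars A₀) ∘ₗ TensorProduct.mk A₀ R M₀ 1) (fun m => ?_)
    ((IsLocalizedModule.lift P₁.primeCompl ν ψ hunit).restrictScalars R) θ₀ (fun m => ?_) ρ x hx
  · show ((1 : R) ⊗ₜ[A₀] a₀ : R ⊗[A₀] B₀) • ν ((1 : R) ⊗ₜ[A₀] m) = ν ((1 : R) ⊗ₜ[A₀] (a₀ • m))
    rw [← LinearMap.map_smul ν, FlatStage64.tmul_smul_tmul, mul_one]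
  · show IsLocalizedModule.lift P₁.primeCompl ν ψ hunit (ν ((1 : R) ⊗ₜ[A₀] m)) = θ₀ m
    rw [IsLocalizedModule.lift_apply]
    show ψ₀ (1 ⊗ₜ m) = _
    rw [hψ₀, map_one, one_smul]

end At

section Global

variable {A₀ A B₀ M₀ : Type u} [CommRing A₀] [IsNoetherianRing A₀] [CommRing A] [Algebra A₀ A]
  [CommRing B₀] [Algebra A₀ B₀] [Algebra.FiniteType A₀ B₀]
  [AddCommGroup M₀] [Module A₀ M₀] [Module B₀ M₀] [IsScalarTower A₀ B₀ M₀] [Module.Finite B₀ M₀]

theorem lTensor_injective_of_fibres (hflat : Module.Flat A (A ⊗[A₀] M₀)) (a₀ : B₀)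
    (hfib : ∀ (p : Ideal A) [p.IsPrime],
      Function.Injective ((Algebra.lsmul A₀ A₀ M₀ a₀).lTensor p.ResidueField)) :
    Function.Injective ((Algebra.lsmul A₀ A₀ M₀ a₀).lTensor A) := by
  classical
  obtain ⟨C, hC, hCflat⟩ := FlatStage64.exists_fg_flat (R := A₀) B₀ (M := M₀) A hflat
  haveI : Algebra.FiniteType A₀ C := (Subalgebra.fg_iff_finiteType C).mp hC
  haveI : IsNoetherianRing C := Algebra.FiniteType.isNoetherianRing A₀ C
  haveI : Module.Flat C (C ⊗[A₀] M₀) := hCflat C le_rfl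
  rw [injective_iff_map_eq_zero]
  intro x hx
  letI := FlatStage64.tensorModule A₀ A B₀ M₀
  haveI := FlatStage64.isScalarTower_tensorModule A₀ A B₀ M₀
  by_contra hne
  have hker : (LinearMap.toSpanSingleton (A ⊗[A₀] B₀) (A ⊗[A₀] M₀) x).ker ≠ ⊤ := by
    intro h
    apply hne
    have h1 : (1 : A ⊗[A₀] B₀) ∈ (LinearMap.toSpanSingleton (A ⊗[A₀] B₀) (A ⊗[A₀] M₀) x).ker :=
      h ▸ Submodule.mem_top
    rwa [LinearMap.mem_ker, LinearMap.toSpanSingleton_apply, one_smul] at h1
  obtain ⟨P, hPm, hP⟩ := Ideal.exists_le_maximal _ hker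
  haveI : P.IsPrime := hPm.isPrime
  let p : Ideal A := P.comap (algebraMap A (A ⊗[A₀] B₀))
  haveI : p.IsPrime := inferInstanceAs (P.comap _).IsPrime
  let q : Ideal C := p.comap (algebraMap C A)
  haveI : q.IsPrime := inferInstanceAs (p.comap _).IsPrime
  let R := Localization.AtPrime q
  haveI : IsNoetherianRing R := IsLocalization.isNoetherianRing q.primeCompl _ inferInstance
  let N := R ⊗[A₀] M₀
  let S := R ⊗[A₀] B₀
  letI : Module S N := FlatStage64.tensorModule A₀ R B₀ M₀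
  haveI : IsScalarTower R S N := FlatStage64.isScalarTower_tensorModule A₀ R B₀ M₀
  haveI : Module.Finite S N := FlatStage64.finite_tensorModule A₀ R B₀ M₀
  haveI : IsNoetherianRing S := Algebra.FiniteType.isNoetherianRing R S
  haveI : Module.Flat R N :=
    Module.Flat.of_linearEquiv (TensorProduct.AlgebraTensorModule.cancelBaseChange A₀ C R R M₀).symm
  let c : S := (1 : R) ⊗ₜ[A₀] a₀
  -- the fibre
  have hqu : ∀ y : q.primeCompl, IsUnit (((algebraMap A p.ResidueField).comp (algebraMap C A)) y) :=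
    fun y => IsUnit.mk0 _ fun h => y.2 ((Ideal.algebraMap_residueField_eq_zero (I := p)).1 h :)
  let jR : R →+* p.ResidueField := IsLocalization.lift hqu
  have hjR0 : ∀ a, jR (algebraMap A₀ R a) = algebraMap A₀ p.ResidueField a := fun a => by
    rw [IsScalarTower.algebraMap_apply A₀ C R, IsLocalization.lift_eq, RingHom.comp_apply,
      ← IsScalarTower.algebraMap_apply, ← IsScalarTower.algebraMap_apply]
  have hjRm : ∀ r ∈ maximalIdeal R, jR r = 0 := by
    intro r hr
    obtain ⟨y, s, rfl⟩ := IsLocalization.exists_mk'_eq q.primeCompl r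
    rw [IsLocalization.AtPrime.mk'_mem_maximal_iff R q] at hr
    refine (IsLocalization.lift_mk'_spec hqu y 0 s).2 ?_
    rw [RingHom.comp_apply, mul_zero, Ideal.algebraMap_residueField_eq_zero]
    exact hr
  letI : Field (R ⧸ maximalIdeal R) := Ideal.Quotient.field _
  let jq : (R ⧸ maximalIdeal R) →+* p.ResidueField := Ideal.Quotient.lift _ jR hjRm
  letI : Algebra (R ⧸ maximalIdeal R) p.ResidueField := jq.toAlgebra
  haveI : IsScalarTower A₀ (R ⧸ maximalIdeal R) p.ResidueField :=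
    IsScalarTower.of_algebraMap_eq fun a => (hjR0 a).symm
  obtain ⟨π, hπ⟩ := (Algebra.linearMap (R ⧸ maximalIdeal R) p.ResidueField).exists_leftInverse_of_injective
    (LinearMap.ker_eq_bot.2 jq.injective)
  have hfibR : ∀ n : N, c • n ∈ maximalIdeal R • (⊤ : Submodule R N) →
      n ∈ maximalIdeal R • (⊤ : Submodule R N) := fun n hn =>
    mem_smul_of_smul_mem R (maximalIdeal R) a₀
      ((Algebra.linearMap (R ⧸ maximalIdeal R) p.ResidueField).restrictScalars A₀)
      (π.restrictScalars A₀) (fun z => LinearMap.congr_fun hπ z) (hfib p) n hn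
  -- the local ring at `P`
  let Bp := Localization.AtPrime P
  let L := LocalizedModule P.primeCompl (A ⊗[A₀] M₀)
  let κ : C →+* Bp := ((algebraMap (A ⊗[A₀] B₀) Bp).comp (algebraMap A (A ⊗[A₀] B₀))).comp (algebraMap C A)
  have hκu : ∀ y : q.primeCompl, IsUnit (κ y) := fun y =>
    IsLocalization.map_units Bp (⟨algebraMap A (A ⊗[A₀] B₀) (algebraMap C A y), fun h => y.2 h⟩ : P.primeCompl)
  let iR : R →+* Bp := IsLocalization.lift hκu
  letI : Algebra R Bp := iR.toAlgebra
  have hiR : ∀ a : A₀, iR (algebraMap A₀ R a) = algebraMap A₀ Bp a := fun a => by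
    rw [IsScalarTower.algebraMap_apply A₀ C R, IsLocalization.lift_eq]
    simp only [κ, RingHom.comp_apply, ← IsScalarTower.algebraMap_apply]
  haveI : IsScalarTower A₀ R Bp := IsScalarTower.of_algebraMap_eq fun a => (hiR a).symm
  let β : B₀ →ₐ[A₀] Bp :=
    (IsScalarTower.toAlgHom A₀ (A ⊗[A₀] B₀) Bp).comp Algebra.TensorProduct.includeRight
  have hloc : ∀ r ∈ maximalIdeal R, algebraMap R Bp r ∈ maximalIdeal Bp := by
    intro r hr
    obtain ⟨y, s, rfl⟩ := IsLocalization.exists_mk'_eq q.primeCompl r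
    rw [IsLocalization.AtPrime.mk'_mem_maximal_iff R q] at hr
    show iR _ ∈ _
    rw [IsLocalization.lift_mk']
    refine Ideal.mul_mem_right _ _ ?_
    exact (IsLocalization.AtPrime.to_map_mem_maximal_iff Bp P _).2 hr
  let θ : (A ⊗[A₀] M₀) →ₗ[A ⊗[A₀] B₀] L := LocalizedModule.mkLinearMap P.primeCompl _
  haveI : IsScalarTower A₀ (A ⊗[A₀] B₀) (A ⊗[A₀] M₀) := IsScalarTower.of_algebraMap_smul fun a z => by
    rw [IsScalarTower.algebraMap_apply A₀ A (A ⊗[A₀] B₀), algebraMap_smul, algebraMap_smul]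
  haveI : IsScalarTower A₀ (A ⊗[A₀] B₀) L := inferInstance
  haveI : IsScalarTower A₀ Bp L := IsScalarTower.of_algebraMap_smul fun a z => by
    rw [IsScalarTower.algebraMap_apply A₀ (A ⊗[A₀] B₀) Bp, algebraMap_smul, algebraMap_smul]
  let θ₀ : M₀ →ₗ[A₀] L := (θ.restrictScalars A₀) ∘ₗ TensorProduct.mk A₀ A M₀ 1
  let ρ : A →ₗ[A₀] Bp := (IsScalarTower.toAlgHom A₀ A Bp).toLinearMap
  have hθ₀ : ∀ b m, θ₀ (b • m) = β b • θ₀ m := by
    intro b m
    show θ (1 ⊗ₜ (b • m)) = algebraMap (A ⊗[A₀] B₀) Bp (1 ⊗ₜ b) • θ (1 ⊗ₜ m)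
    rw [algebraMap_smul, ← LinearMap.map_smul θ, FlatStage64.tmul_smul_tmul, mul_one]
  have h0 := lift_eq_zero_of_fibre (R := R) (L := L) (inferInstance : Module.Flat R N) a₀ hfibR hloc β θ₀
    hθ₀ ρ x hx
  have hξ : ∀ w, TensorProduct.lift (((LinearMap.lsmul Bp L).restrictScalars₁₂ A₀ A₀).compl₁₂ ρ θ₀) w
      = θ w := by
    intro w
    induction w using TensorProduct.induction_on with
    | zero => simp
    | add u v hu hv => simp only [map_add, hu, hv]
    | tmul a w =>
      rw [TensorProduct.lift.tmul]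
      show algebraMap A Bp a • θ (1 ⊗ₜ w) = _
      rw [IsScalarTower.algebraMap_apply A (A ⊗[A₀] B₀) Bp, algebraMap_smul, ← LinearMap.map_smul θ,
        Algebra.TensorProduct.algebraMap_apply, FlatStage64.tmul_smul_tmul, one_smul]
      simp
  rw [hξ] at h0
  obtain ⟨t, ht⟩ := (IsLocalizedModule.eq_zero_iff P.primeCompl θ).1 h0
  exact t.2 (hP (LinearMap.mem_ker.2 ht))

end Global

end Groth.Agent.RelReg52
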