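import Groth.Agent.RelReg52.Core

set_option autoImplicit false
set_option linter.style.haveILetI false
set_option maxHeartbeats 1000000
set_option synthInstance.maxHeartbeats 100000

universe u

open TensorProduct

namespace Groth.Agent.RelReg52

variable {A₀ A B₀ B M M₀ : Type u} [CommRing A₀] [IsNoetherianRing A₀] [CommRing A] [Algebra A₀ A]
  [CommRing B₀] [Algebra A₀ B₀] [Algebra.FiniteType A₀ B₀] [CommRing B] [Algebra A B] [Algebra A₀ B]
  [Algebra B₀ B] [IsScalarTower A₀ A B] [IsScalarTower A₀ B₀ B]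
  [AddCommGroup M] [Module B M] [Module A M] [IsScalarTower A B M]
  [AddCommGroup M₀] [Module A₀ M₀] [Module B₀ M₀] [IsScalarTower A₀ B₀ M₀] [Module.Finite B₀ M₀]

theorem isSMulRegular_of_model [Algebra.IsPushout A₀ A B₀ B] [Algebra.FiniteType A B] [Module.Flat A M]
    (eM : M ≃ₗ[B] B ⊗[B₀] M₀) (a₀ : B₀) (a : B) (ha₀ : algebraMap B₀ B a₀ = a)
    (hreg : ∀ (p : Ideal A) [p.IsPrime],
      IsSMulRegular ((B ⊗[A] p.ResidueField) ⊗[B] M)
        ((a ⊗ₜ[A] (1 : p.ResidueField)) : B ⊗[A] p.ResidueField)) :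
    IsSMulRegular M a := by
  let E : M ≃ₗ[A] A ⊗[A₀] M₀ :=
    (eM.restrictScalars A).trans (Algebra.IsPushout.cancelBaseChange A₀ A B₀ B M₀)
  haveI : Module.Flat A (A ⊗[A₀] M₀) := Module.Flat.of_linearEquiv E.symm
  let g := Algebra.lsmul A₀ A₀ M₀ a₀
  have hE : ∀ w, E.symm (g.lTensor A w) = a • E.symm w := by
    intro w
    induction w using TensorProduct.induction_on with
    | zero => simp
    | add u v hu hv => simp only [map_add, smul_add, hu, hv]
    | tmul a' w =>
      show eM.symm ((Algebra.IsPushout.cancelBaseChange A₀ A B₀ B M₀).symm (a' ⊗ₜ (a₀ • w))) =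
        a • eM.symm ((Algebra.IsPushout.cancelBaseChange A₀ A B₀ B M₀).symm (a' ⊗ₜ w))
      rw [Algebra.IsPushout.cancelBaseChange_symm_tmul, Algebra.IsPushout.cancelBaseChange_symm_tmul,
        ← LinearEquiv.map_smul]
      congr 1
      rw [TensorProduct.tmul_smul, TensorProduct.smul_tmul', TensorProduct.smul_tmul', smul_eq_mul,
        Algebra.smul_def, ha₀]
  have hfib : ∀ (p : Ideal A) [p.IsPrime], Function.Injective (g.lTensor p.ResidueField) := by
    intro p _
    letI : Algebra p.ResidueField (B ⊗[A] p.ResidueField) := Algebra.TensorProduct.rightAlgebra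
    haveI : IsScalarTower A p.ResidueField (B ⊗[A] p.ResidueField) :=
      Algebra.TensorProduct.right_isScalarTower
    haveI : Algebra.IsPushout A p.ResidueField B (B ⊗[A] p.ResidueField) :=
      Algebra.IsPushout.symm inferInstance
    let e₁ := TensorProduct.AlgebraTensorModule.cancelBaseChange A₀ A A p.ResidueField M₀
    let e₂ := LinearEquiv.lTensor p.ResidueField E.symm
    let e₃ := Algebra.IsPushout.cancelBaseChange A p.ResidueField B (B ⊗[A] p.ResidueField) M
    have hθ : ∀ w, e₃.symm (e₂ (e₁.symm (g.lTensor p.ResidueField w))) =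
        ((a ⊗ₜ[A] (1 : p.ResidueField)) : B ⊗[A] p.ResidueField) • e₃.symm (e₂ (e₁.symm w)) := by
      intro w
      induction w using TensorProduct.induction_on with
      | zero => simp
      | add u v hu hv => simp only [map_add, smul_add, hu, hv]
      | tmul c w =>
        have h1 : e₁.symm (g.lTensor p.ResidueField (c ⊗ₜ w)) = c ⊗ₜ[A] (g.lTensor A ((1 : A) ⊗ₜ[A₀] w)) := by
          simp [e₁]
        have h2 : e₁.symm (c ⊗ₜ[A₀] w) = c ⊗ₜ[A] ((1 : A) ⊗ₜ[A₀] w) := by simp [e₁]
        rw [h1, h2]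
        simp only [e₂, e₃, LinearEquiv.lTensor_tmul, hE,
          Algebra.IsPushout.cancelBaseChange_symm_tmul, TensorProduct.tmul_smul,
          TensorProduct.smul_tmul']
        congr 1
        show a • ((1 : B) ⊗ₜ[A] c) = (a ⊗ₜ[A] (1 : p.ResidueField)) * ((1 : B) ⊗ₜ[A] c)
        rw [TensorProduct.smul_tmul', Algebra.TensorProduct.tmul_mul_tmul, one_mul, smul_eq_mul]
    intro x y hxy
    refine e₁.symm.injective (e₂.injective (e₃.symm.injective (hreg p ?_)))
    simp only
    rw [← hθ, ← hθ, hxy]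
  have hinj := lTensor_injective_of_fibres (A₀ := A₀) (A := A) (M₀ := M₀) inferInstance a₀ hfib
  intro x y hxy
  obtain ⟨x, rfl⟩ := E.symm.surjective x
  obtain ⟨y, rfl⟩ := E.symm.surjective y
  simp only [← hE] at hxy
  rw [hinj (E.symm.injective hxy)]

end Groth.Agent.RelReg52
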